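import Groth.Agent.CurvSt.K760.Iface2
import Groth.Agent.OrdSurf.K841.FreeKer
import Groth.Agent.S9829
import Mathlib.RingTheory.DedekindDomain.IntegralClosure
import Mathlib.FieldTheory.Minpoly.IsIntegrallyClosed

/-!
# Finite normal extensions of two-dimensional regular local domains are free (node F1 of S16736)
-/

set_option autoImplicit false

universe u

open Polynomial Groth.Agent.Divis.DepthTwo

namespace K228.Hurw.Free

variable {A F : Type*} [CommRing A] [IsDomain A] [Field F] [Algebra A F] [IsFractionRing A F]

/-- An element `c` of the fraction field with `a ^ m * c` and `b ^ n * c` in `A`, for a regular pair `a`, `b`,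
is in `A`. -/
theorem mem_range_of_pow_mul {a b : A} (h : RegPair a b A) (ha : a ≠ 0) (m n : ℕ) (c : F)
    (h1 : algebraMap A F (a ^ m) * c ∈ (algebraMap A F).range)
    (h2 : algebraMap A F (b ^ n) * c ∈ (algebraMap A F).range) : c ∈ (algebraMap A F).range := by
  obtain ⟨u, hu⟩ := h1
  obtain ⟨v, hv⟩ := h2
  have hinj := IsFractionRing.injective A F
  have h3 : b ^ n • u = a ^ m • v := by
    apply hinj
    rw [smul_eq_mul, smul_eq_mul, map_mul, map_mul, hu, hv]
    ring
  obtain ⟨z, hz⟩ := (h.pow m n).div u v h3
  refine ⟨z, ?_⟩
  have ha' : algebraMap A F (a ^ m) ≠ 0 := by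
    rw [Ne, map_eq_zero_iff _ hinj]
    exact pow_ne_zero _ ha
  apply mul_left_cancel₀ ha'
  rw [← hu, hz, smul_eq_mul, map_mul]

variable [IsIntegrallyClosed A] {E : Type*} [Field E] [Algebra F E] [Algebra A E] [IsScalarTower A F E]
  [FiniteDimensional F E]

/-- The coefficients of the minimal polynomial of an element `e` of which the multiple `a • e` is integral. -/
theorem coeff_mul_mem {a : A} (ha : a ≠ 0) (e : E) (he : IsIntegral A (algebraMap A E a * e)) (i : ℕ) :
    algebraMap A F (a ^ ((minpoly F e).natDegree - i)) * (minpoly F e).coeff i ∈ (algebraMap A F).range := by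
  have hinj := IsFractionRing.injective A F
  have ha' : algebraMap A F a ≠ 0 := by
    rwa [Ne, map_eq_zero_iff _ hinj]
  have h1 : minpoly F (algebraMap A F a • e) = (minpoly F e).scaleRoots (algebraMap A F a) :=
    IsIntegrallyClosed.minpoly_smul ha' (Algebra.IsIntegral.isIntegral e)
  have h2 : algebraMap A F a • e = algebraMap A E a * e := by
    rw [Algebra.smul_def, ← IsScalarTower.algebraMap_apply]
  have h3 := minpoly.isIntegrallyClosed_eq_field_fractions' F he
  rw [← h2, h1] at h3
  refine ⟨(minpoly A (algebraMap A F a • e)).coeff i, ?_⟩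
  have h4 := congrArg (fun p => p.coeff i) h3
  simp only [coeff_scaleRoots, coeff_map] at h4
  rw [← h4, map_pow, mul_comm]

include F in
theorem isIntegral_of_regPair {a b : A} (h : RegPair a b A) (ha : a ≠ 0) (hb : b ≠ 0) (e : E)
    (h1 : IsIntegral A (algebraMap A E a * e)) (h2 : IsIntegral A (algebraMap A E b * e)) :
    IsIntegral A e := by
  have hcoeff : ∀ i, (minpoly F e).coeff i ∈ (algebraMap A F).range := fun i =>
    mem_range_of_pow_mul h ha _ _ _ (coeff_mul_mem ha e h1 i) (coeff_mul_mem hb e h2 i)
  have hlift : minpoly F e ∈ Polynomial.lifts (algebraMap A F) := by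
    rw [Polynomial.lifts_iff_coeff_lifts]
    intro i
    exact hcoeff i
  have hmonic : (minpoly F e).Monic := minpoly.monic (Algebra.IsIntegral.isIntegral e)
  obtain ⟨q, hq1, -, hq2⟩ := Polynomial.lifts_and_natDegree_eq_and_monic hlift hmonic
  refine ⟨q, hq2, ?_⟩
  have h3 := minpoly.aeval F e
  rw [← hq1, aeval_map_algebraMap] at h3
  exact h3

include F in
theorem regPair_integralClosure (N : Type*) [CommRing N] [Algebra A N] [Algebra N E] [IsScalarTower A N E]
    [IsIntegralClosure N A E] {a b : A} (h : RegPair a b A) : RegPair a b N := by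
  have hinjA : Function.Injective (algebraMap A E) := by
    rw [IsScalarTower.algebraMap_eq A F E]
    exact (algebraMap F E).injective.comp (IsFractionRing.injective A F)
  have hinjN : Function.Injective (algebraMap N E) := IsIntegralClosure.algebraMap_injective N A E
  have ha : a ≠ 0 := by
    rintro rfl
    exact one_ne_zero (h.inj (1 : A) (zero_smul _ _))
  have haE : algebraMap A E a ≠ 0 := by rwa [Ne, map_eq_zero_iff _ hinjA]
  refine ⟨fun x hx => ?_, fun x y hxy => ?_⟩
  · apply hinjN
    have := congrArg (algebraMap N E) hx
    rw [Algebra.smul_def, map_mul, ← IsScalarTower.algebraMap_apply, map_zero] at this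
    rw [map_zero]
    exact (mul_eq_zero.mp this).resolve_left haE
  · by_cases hb : b = 0
    · subst hb
      obtain ⟨z, hz⟩ := h.div 1 0 (by simp)
      refine ⟨z • x, ?_⟩
      rw [smul_smul, ← smul_eq_mul, ← hz, one_smul]
    · have hbE : algebraMap A E b ≠ 0 := by rwa [Ne, map_eq_zero_iff _ hinjA]
      have h1 := congrArg (algebraMap N E) hxy
      rw [Algebra.smul_def, Algebra.smul_def, map_mul, map_mul, ← IsScalarTower.algebraMap_apply,
        ← IsScalarTower.algebraMap_apply] at h1
      have he : IsIntegral A ((algebraMap A E a)⁻¹ * algebraMap N E x) := by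
        apply isIntegral_of_regPair (F := F) h ha hb
        · rw [mul_inv_cancel_left₀ haE]
          exact (IsIntegralClosure.isIntegral A E x).map (IsScalarTower.toAlgHom A N E)
        · have : algebraMap A E b * ((algebraMap A E a)⁻¹ * algebraMap N E x) = algebraMap N E y := by
            field_simp
            rw [h1]
          rw [this]
          exact (IsIntegralClosure.isIntegral A E y).map (IsScalarTower.toAlgHom A N E)
      refine ⟨IsIntegralClosure.mk' N _ he, ?_⟩
      apply hinjN
      rw [Algebra.smul_def, map_mul, IsIntegralClosure.algebraMap_mk', ← IsScalarTower.algebraMap_apply,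
        mul_inv_cancel_left₀ haE]

theorem main : K760.Hurw.FreeStmt.{u} := by
  intro A _ _ _ hdim F _ _ _ E _ _ _ _ _ _ N _ _ _ _ _
  have hic : IsIntegrallyClosed A := Groth.Agent.S9829.result A
  have hfin : Module.Finite A N := IsIntegralClosure.finite A F E N
  refine ⟨hfin, ?_⟩
  have hinjA : Function.Injective (algebraMap A E) := by
    rw [IsScalarTower.algebraMap_eq A F E]
    exact (algebraMap F E).injective.comp (IsFractionRing.injective A F)
  have hinjN : Function.Injective (algebraMap N E) := IsIntegralClosure.algebraMap_injective N A E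
  refine K841.FreeKer.free_of_regPair hdim.le N ?_ (fun a b h => regPair_integralClosure (F := F) (E := E) N h)
  have hinj : Function.Injective (algebraMap A N) := by
    have : algebraMap A E = (algebraMap N E).comp (algebraMap A N) := IsScalarTower.algebraMap_eq A N E
    rw [this] at hinjA
    exact Function.Injective.of_comp hinjA
  have : IsDomain N := hinjN.isDomain (algebraMap N E)
  have : FaithfulSMul A N := (faithfulSMul_iff_algebraMap_injective A N).mpr hinj
  infer_instance

end K228.Hurw.Free
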