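import Groth.Agent.CurvSt.K760.Iface
import Groth.Agent.S2195
import Mathlib.RingTheory.Localization.NormTrace
import Mathlib.RingTheory.Nakayama
import Mathlib.RingTheory.Flat.EquationalCriterion
import Mathlib.RingTheory.Flat.TorsionFree
import Mathlib.LinearAlgebra.FreeModule.PID
import Mathlib.RingTheory.Etale.Basic
import Mathlib.RingTheory.RingHom.Etale
import Mathlib.FieldTheory.Separable
import Mathlib.Algebra.Category.Ring.Constructions

/-!
# Specialization of the discriminant (node GEN of S16736)
-/

set_option autoImplicit false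

universe u

open Polynomial CategoryTheory

namespace K228.Hurw.Gen

section Mat

variable {D : Type*} [CommRing D] [IsDomain D] {ι : Type*} [Fintype ι] [DecidableEq ι]

theorem trace_of_mul_eq (P U N : Matrix ι ι D) (s : D) (hP : P.det ≠ 0) (h : N * P = s • (P * U)) :
    N.trace = s * U.trace := by
  have h1 : P.det • N = s • (P * U * P.adjugate) := by
    rw [← Matrix.smul_mul, ← h, Matrix.mul_assoc, Matrix.mul_adjugate, Matrix.mul_smul, Matrix.mul_one]
  have h2 := congrArg Matrix.trace h1
  rw [Matrix.trace_smul, Matrix.trace_smul, Matrix.trace_mul_comm, ← Matrix.mul_assoc, Matrix.adjugate_mul,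
    Matrix.smul_mul, Matrix.one_mul, Matrix.trace_smul] at h2
  simp only [smul_eq_mul] at h2
  apply mul_left_cancel₀ hP
  rw [h2]
  ring

variable {B : Type*} [CommRing B] [Algebra D B]

/-- The trace of an element in terms of a family which is a basis up to multiplication by `s`. -/
theorem mul_trace_eq (b : Module.Basis ι D B) (f : ι → B) (P : Matrix ι ι D) (hP : P.det ≠ 0)
    (hf : ∀ j, f j = ∑ i, P j i • b i) (s : D) (c : B) (N : Matrix ι ι D)
    (hN : ∀ j, s • (c * f j) = ∑ i, N j i • f i) : s * Algebra.trace D B c = N.trace := by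
  rw [Algebra.trace_eq_matrix_trace b]
  rw [← Matrix.trace_transpose (Algebra.leftMulMatrix b c)]
  refine (trace_of_mul_eq P _ N s hP ?_).symm
  have hc : ∀ i, c * b i = ∑ l, (Algebra.leftMulMatrix b c) l i • b l := by
    intro i
    refine (b.sum_repr (c * b i)).symm.trans (Finset.sum_congr rfl fun l _ => ?_)
    rw [Algebra.leftMulMatrix_eq_repr_mul]
  ext j l
  have h1 := hN j
  have h2 : s • (c * f j) = ∑ l, (s • (P * (Algebra.leftMulMatrix b c).transpose)) j l • b l := by
    rw [hf j, Finset.mul_sum, Finset.smul_sum]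
    simp only [mul_smul_comm, hc, Finset.smul_sum, Matrix.smul_apply, Matrix.mul_apply, Matrix.transpose_apply,
      Finset.sum_smul, smul_smul, smul_eq_mul, Finset.mul_sum]
    rw [Finset.sum_comm]
  have h3 : ∑ i, N j i • f i = ∑ l, (N * P) j l • b l := by
    simp only [hf, Finset.smul_sum, smul_smul, Matrix.mul_apply, Finset.sum_smul]
    rw [Finset.sum_comm]
  rw [h2, h3] at h1
  have h4 := congrArg (fun x => b.repr x l) h1
  simp only [map_sum, map_smul, Module.Basis.repr_self, Finsupp.smul_single, smul_eq_mul, mul_one,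
    Finsupp.coe_finsetSum, Finset.sum_apply, Finsupp.single_apply, Finset.sum_ite_eq',
    Finset.mem_univ, if_true] at h4
  exact h4.symm

/-- The discriminant of a family which is a basis up to multiplication by `s`. -/
theorem discr_mul_eq (b : Module.Basis ι D B) (f : ι → B) (P : Matrix ι ι D) (hP : P.det ≠ 0)
    (hf : ∀ j, f j = ∑ i, P j i • b i) (s : D) (N : ι → ι → Matrix ι ι D)
    (hN : ∀ l m j, s • (f l * f m * f j) = ∑ i, N l m j i • f i) :
    s ^ Fintype.card ι * (P.det ^ 2 * Algebra.discr D b) = (Matrix.of fun l m => (N l m).trace).det := by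
  rw [← Algebra.discr_of_matrix_mulVec]
  have h1 : (P.map (algebraMap D B)).mulVec b = f := by
    ext j
    rw [hf j, Matrix.mulVec, dotProduct]
    refine Finset.sum_congr rfl fun i _ => ?_
    rw [Matrix.map_apply, Algebra.smul_def]
  rw [h1, Algebra.discr_def, ← Matrix.det_smul]
  congr 1
  ext l m
  rw [Matrix.smul_apply, Matrix.of_apply, Algebra.traceMatrix_apply, Algebra.traceForm_apply, smul_eq_mul,
    mul_trace_eq b f P hP hf s (f l * f m) (N l m) (hN l m)]

end Mat

section Poly

variable {K : Type*} [Field K]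

/-- A divisor of a power of a product of distinct linear factors. -/
theorem exists_exponents {n : ℕ} (γ : Fin n → K) (hγ : Function.Injective γ) (Δ : K[X]) (N : ℕ)
    (h : Δ ∣ (∏ j, (X - C (γ j))) ^ N) : ∃ e : Fin n → ℕ, Associated (∏ j, (X - C (γ j)) ^ e j) Δ := by
  classical
  have hprod : (∏ j, (X - C (γ j))) ≠ 0 := (monic_prod_of_monic _ _ fun j _ => monic_X_sub_C _).ne_zero
  have hne : (∏ j, (X - C (γ j))) ^ N ≠ 0 := pow_ne_zero _ hprod
  have hΔ : Δ ≠ 0 := by
    rintro rfl
    exact hne (zero_dvd_iff.mp h)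
  have hsplit : Δ.Splits := by
    refine Splits.of_dvd ?_ hne h
    exact Splits.pow (Splits.prod fun j _ => Splits.X_sub_C _) _
  have hroots : ∀ a ∈ Δ.roots, ∃ j, γ j = a := by
    intro a ha
    have h1 : ((∏ j, (X - C (γ j))) ^ N).IsRoot a := (isRoot_of_mem_roots ha).dvd h
    rw [IsRoot.def, eval_pow, eval_prod] at h1
    obtain ⟨j, -, hj⟩ := Finset.prod_eq_zero_iff.mp (eq_zero_of_pow_eq_zero h1)
    rw [eval_sub, eval_X, eval_C, sub_eq_zero] at hj
    exact ⟨j, hj.symm⟩
  refine ⟨fun j => Δ.roots.count (γ j), ?_⟩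
  have h3 : (Δ.roots.map fun a => X - C a).prod = ∏ j, (X - C (γ j)) ^ Δ.roots.count (γ j) := by
    rw [Finset.prod_multiset_map_count]
    have h4 : Δ.roots.toFinset ⊆ Finset.univ.image γ := by
      intro a ha
      obtain ⟨j, hj⟩ := hroots a (Multiset.mem_toFinset.mp ha)
      exact Finset.mem_image.mpr ⟨j, Finset.mem_univ _, hj⟩
    rw [Finset.prod_subset h4, Finset.prod_image fun x _ y _ hxy => hγ hxy]
    intro a _ ha
    rw [Multiset.count_eq_zero.mpr (fun h => ha (Multiset.mem_toFinset.mpr h)), pow_zero]
  rw [← h3]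
  have h5 := hsplit.eq_prod_roots
  have hu : IsUnit (C Δ.leadingCoeff) := by
    rw [isUnit_C]
    exact (leadingCoeff_ne_zero.mpr hΔ).isUnit
  refine ⟨hu.unit, ?_⟩
  rw [IsUnit.unit_spec, mul_comm]
  exact h5.symm

/-- The numerical end of the argument. -/
theorem prod_dvd_prod {r n : ℕ} {L : Type*} [Field L] (β : Fin r → K) (γ : Fin n → K) (β₀ : Fin r → L)
    (γ₀ : Fin n → L) (hγ : Function.Injective γ) (hβ₀ : Function.Injective β₀)
    (hβγ : ∀ i j, β₀ i = γ₀ j → β i = γ j) (e : Fin n → ℕ)
    (h : (∏ j, (X - C (γ₀ j)) ^ e j) ∣ ∏ i, (X - C (β₀ i))) :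
    (∏ j, (X - C (γ j)) ^ e j) ∣ ∏ i, (X - C (β i)) := by
  classical
  refine Fintype.prod_dvd_of_coprime (fun i j hij => ?_) fun j => ?_
  · exact (pairwise_coprime_X_sub_C hγ hij).pow
  · have h1 : (X - C (γ₀ j)) ^ e j ∣ ∏ i, (X - C (β₀ i)) := (Finset.dvd_prod_of_mem _ (Finset.mem_univ j)).trans h
    have hsq : Squarefree (∏ i, (X - C (β₀ i))) := (separable_prod_X_sub_C_iff.mpr hβ₀).squarefree
    rcases Nat.eq_zero_or_pos (e j) with h0 | h0
    · rw [h0, pow_zero]
      exact one_dvd _
    · have h2 : (X - C (γ₀ j)) ∣ ∏ i, (X - C (β₀ i)) := (dvd_pow_self _ h0.ne').trans h1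
      rw [dvd_iff_isRoot, IsRoot.def, eval_prod] at h2
      obtain ⟨i, -, hi⟩ := Finset.prod_eq_zero_iff.mp h2
      rw [eval_sub, eval_X, eval_C, sub_eq_zero] at hi
      have h3 : e j = 1 := by
        by_contra hne
        have h4 : (X - C (γ₀ j)) * (X - C (γ₀ j)) ∣ ∏ i, (X - C (β₀ i)) := by
          rw [← sq]
          exact (pow_dvd_pow _ (by omega)).trans h1
        exact not_isUnit_X_sub_C _ (hsq _ h4)
      rw [h3, pow_one, ← hβγ i j hi.symm]
      exact Finset.dvd_prod_of_mem _ (Finset.mem_univ i)

end Poly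

section Lift

variable {R R₀ C C₀ : Type*} [CommRing R] [CommRing R₀] [CommRing C] [CommRing C₀] [Algebra R C] [Algebra R₀ C₀]
  (φ : R →+* R₀) (hφ : Function.Surjective φ) (ϖ : C →+* C₀)
  (hcomp : ∀ a, ϖ (algebraMap R C a) = algebraMap R₀ C₀ (φ a))
  {ι : Type*} [Fintype ι] (b₀ : Module.Basis ι R₀ C₀) (e : ι → C) (he : ∀ i, ϖ (e i) = b₀ i)

include hφ hcomp he in
/-- Nakayama: the lifted family generates, up to an element `s` with `φ s = 1`. -/
theorem exists_span [Module.Finite R C] (hker : RingHom.ker ϖ = (RingHom.ker φ).map (algebraMap R C)) :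
    ∃ s : R, φ s = 1 ∧ ∀ c : C, s • c ∈ Submodule.span R (Set.range e) := by
  have h1 : (⊤ : Submodule R C) ≤ Submodule.span R (Set.range e) ⊔ RingHom.ker φ • ⊤ := by
    intro c _
    choose a ha using hφ
    have h2 : c - ∑ i, a (b₀.repr (ϖ c) i) • e i ∈ RingHom.ker ϖ := by
      rw [RingHom.mem_ker, map_sub, map_sum, sub_eq_zero]
      conv_lhs => rw [← b₀.sum_repr (ϖ c)]
      refine Finset.sum_congr rfl fun i _ => ?_
      rw [Algebra.smul_def, Algebra.smul_def, map_mul, hcomp, ha, he]
    have h3 : c - ∑ i, a (b₀.repr (ϖ c) i) • e i ∈ (RingHom.ker φ • ⊤ : Submodule R C) := by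
      rw [Ideal.smul_top_eq_map, ← hker]
      exact h2
    have h4 : c = ∑ i, a (b₀.repr (ϖ c) i) • e i + (c - ∑ i, a (b₀.repr (ϖ c) i) • e i) := by ring
    rw [h4]
    exact Submodule.add_mem_sup (Submodule.sum_mem _ fun i _ => Submodule.smul_mem _ _
      (Submodule.subset_span ⟨i, rfl⟩)) h3
  obtain ⟨s, hs, hs1⟩ := Submodule.exists_sub_one_mem_and_smul_le_of_fg_of_le_sup
    (Module.finite_def.mp (inferInstance : Module.Finite R C)) le_rfl h1
  refine ⟨s, ?_, fun c => hs1 (Submodule.smul_mem_pointwise_smul _ _ _ trivial)⟩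
  rw [RingHom.mem_ker, map_sub, map_one, sub_eq_zero] at hs
  exact hs

include hφ hcomp he in
theorem linearIndependent_lift [DecidableEq ι] [IsDomain R] [Nontrivial R₀] [Module.Flat R C] : LinearIndependent R e := by
  rw [Fintype.linearIndependent_iff]
  intro g hg
  obtain ⟨k, a, y, hy, ha⟩ := Module.Flat.isTrivialRelation_of_sum_smul_eq_zero hg
  choose l hl using hφ
  let M : Matrix ι (Fin k) R := Matrix.of a
  let M' : Matrix (Fin k) ι R := Matrix.of fun j i => l (b₀.repr (ϖ (y j)) i)
  have h1 : (M * M').map φ = 1 := by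
    ext i j
    rw [Matrix.map_apply, Matrix.mul_apply, map_sum]
    have h2 : ϖ (e i) = ∑ x, φ (a i x) • ϖ (y x) := by
      rw [hy i, map_sum]
      refine Finset.sum_congr rfl fun x _ => ?_
      rw [Algebra.smul_def, Algebra.smul_def, map_mul, hcomp]
    have h3 := congrArg (fun z => b₀.repr z j) h2
    simp only [he, Module.Basis.repr_self, map_sum, map_smul, Finsupp.coe_finsetSum, Finset.sum_apply,
      Finsupp.smul_apply, smul_eq_mul] at h3
    simp only [M, M', Matrix.of_apply, map_mul, hl]
    rw [← h3, Finsupp.single_apply, Matrix.one_apply]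
  have hdet : (M * M').det ≠ 0 := by
    intro h0
    have h4 : φ (M * M').det = 1 := by
      rw [RingHom.map_det, RingHom.mapMatrix_apply, h1, Matrix.det_one]
    rw [h0, map_zero] at h4
    exact zero_ne_one h4
  have h5 : Matrix.vecMul g M = 0 := by
    ext j
    exact ha j
  have h6 : Matrix.vecMul g (M * M') = 0 := by
    rw [← Matrix.vecMul_vecMul, h5, Matrix.zero_vecMul]
  intro i
  exact congrFun (Matrix.eq_zero_of_vecMul_eq_zero hdet h6) i

end Lift

section Etale

/-- The discriminant of a finite free algebra étale away from `g` divides a power of `g`. -/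
theorem exists_discr_dvd_pow {S B : Type u} [CommRing S] [CommRing B] [Algebra S B] {n : ℕ}
    (b : Module.Basis (Fin n) S B) (g : S)
    (h : Algebra.Etale S (Localization.Away (algebraMap S B g))) : ∃ N : ℕ, Algebra.discr S b ∣ g ^ N := by
  let Sg := Localization.Away g
  let Bg := Localization.Away (algebraMap S B g)
  let : Algebra Sg Bg := (IsLocalization.Away.map Sg Bg (algebraMap S B) g).toAlgebra
  have hst : IsScalarTower S Sg Bg := by
    refine IsScalarTower.of_algebraMap_eq fun x => ?_
    rw [RingHom.algebraMap_toAlgebra, IsLocalization.Away.map, IsLocalization.map_eq]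
    rfl
  have hloc : IsLocalization (Algebra.algebraMapSubmonoid B (Submonoid.powers g)) Bg := by
    rw [Algebra.algebraMapSubmonoid_powers]
    infer_instance
  have hS : Algebra.Etale S Sg := Algebra.Etale.of_isLocalizationAway g
  have h1 : Algebra.Etale Sg Bg := Algebra.Etale.of_restrictScalars S _ _
  have h2 := (Groth.Agent.S2195.result (b.localizationLocalization Sg (Submonoid.powers g) Bg)).mp h1
  rw [Algebra.discr_localizationLocalization] at h2
  exact (IsLocalization.Away.algebraMap_isUnit_iff (x := g) (S := Sg)).mp h2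

open CommRingCat in
/-- Base change of étaleness off `g`. -/
theorem etale_away_of_isPushout {R S C B : Type u} [CommRing R] [CommRing S] [CommRing C] [CommRing B]
    [Algebra R C] [Algebra S B] (φ : R →+* S) (θ : C →+* B) (g : R)
    (h : IsPushout (CommRingCat.ofHom φ) (CommRingCat.ofHom (algebraMap R C))
      (CommRingCat.ofHom (algebraMap S B)) (CommRingCat.ofHom θ))
    (het : Algebra.Etale R (Localization.Away (algebraMap R C g))) :
    Algebra.Etale S (Localization.Away (algebraMap S B (φ g))) := by
  have hw : θ (algebraMap R C g) = algebraMap S B (φ g) := by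
    have := congrArg (fun f => f.hom g) h.w
    exact this.symm
  let Cg := Localization.Away (algebraMap R C g)
  let Bg := Localization.Away (algebraMap S B (φ g))
  have hmap : (Submonoid.powers (algebraMap R C g)).map θ = Submonoid.powers (algebraMap S B (φ g)) := by
    rw [Submonoid.map_powers, hw]
  have hloc : IsLocalization ((Submonoid.powers (algebraMap R C g)).map θ) Bg := by
    rw [hmap]
    infer_instance
  let θg : Cg →+* Bg := IsLocalization.map Bg θ (M := Submonoid.powers (algebraMap R C g))
    (T := (Submonoid.powers (algebraMap R C g)).map θ) (Submonoid.le_comap_map _)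
  have hθg : θg.comp (algebraMap C Cg) = (algebraMap B Bg).comp θ := IsLocalization.map_comp _
  have h2 := CommRingCat.isPushout_of_isLocalization (Rₘ := Cg) (Sₘ := Bg) θ θg hθg
    (Submonoid.powers (algebraMap R C g))
  have h3 := h.paste_vert h2
  have e1 : CommRingCat.ofHom (algebraMap R C) ≫ CommRingCat.ofHom (algebraMap C Cg) =
      CommRingCat.ofHom (algebraMap R Cg) := by
    rw [← CommRingCat.ofHom_comp, ← IsScalarTower.algebraMap_eq]
  have e2 : CommRingCat.ofHom (algebraMap S B) ≫ CommRingCat.ofHom (algebraMap B Bg) =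
      CommRingCat.ofHom (algebraMap S Bg) := by
    rw [← CommRingCat.ofHom_comp, ← IsScalarTower.algebraMap_eq]
  rw [e1, e2] at h3
  let : Algebra R S := φ.toAlgebra
  let : Algebra Cg Bg := θg.toAlgebra
  let : Algebra R Bg := ((algebraMap S Bg).comp φ).toAlgebra
  have t1 : IsScalarTower R S Bg := IsScalarTower.of_algebraMap_eq' rfl
  have t2 : IsScalarTower R Cg Bg := by
    refine IsScalarTower.of_algebraMap_eq' ?_
    have := congrArg CommRingCat.Hom.hom h3.w
    exact this
  have h5 : Algebra.IsPushout R S Cg Bg := CommRingCat.isPushout_iff_isPushout.mp h3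
  have h6 : Algebra.IsPushout R Cg S Bg := h5.symm
  exact (RingHom.etale_algebraMap).mp (RingHom.Etale.isStableUnderBaseChange R Cg S Bg
    (RingHom.etale_algebraMap.mpr het))

end Etale

section Core

variable {R R₀ C C₀ S B : Type*} [CommRing R] [CommRing R₀] [CommRing C] [CommRing C₀] [CommRing S] [CommRing B]
  [Algebra R C] [Algebra R₀ C₀] [Algebra R S] [Algebra C B] [Algebra S B] [Algebra R B] [IsScalarTower R S B]
  [IsScalarTower R C B] [IsDomain R] [IsDomain S] [IsDomain R₀]

/-- Comparison of the discriminants of the special fibre and of a localization. -/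
theorem exists_disc (φ : R →+* R₀) (hφ : Function.Surjective φ) (ϖ : C →+* C₀)
    (hcomp : ∀ a, ϖ (algebraMap R C a) = algebraMap R₀ C₀ (φ a)) (hϖ : Function.Surjective ϖ)
    (hker : RingHom.ker ϖ = (RingHom.ker φ).map (algebraMap R C)) [Module.Finite R C] [Module.Flat R C]
    (hinj : Function.Injective (algebraMap R S)) {d : ℕ} (b₀ : Module.Basis (Fin d) R₀ C₀) (M : Submonoid R)
    [IsLocalization M S] [Algebra.IsPushout R S C B] {d' : ℕ} (b : Module.Basis (Fin d') S B) :
    ∃ T : R, φ T = Algebra.discr R₀ b₀ ∧ Algebra.discr S b ∣ algebraMap R S T := by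
  choose e he using fun i => hϖ (b₀ i)
  obtain ⟨s, hs1, hs2⟩ := exists_span φ hφ ϖ hcomp b₀ e he hker
  have hli := linearIndependent_lift φ hφ ϖ hcomp b₀ e he
  have hN : ∀ l m j, ∃ N : Fin d → R, s • (e l * e m * e j) = ∑ i, N i • e i := by
    intro l m j
    obtain ⟨N, hN⟩ := (Submodule.mem_span_range_iff_exists_fun R).mp (hs2 (e l * e m * e j))
    exact ⟨N, hN.symm⟩
  choose N hN using hN
  let NM : Fin d → Fin d → Matrix (Fin d) (Fin d) R := fun l m => Matrix.of (N l m)
  let T : R := (Matrix.of fun l m => (NM l m).trace).det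
  refine ⟨T, ?_, ?_⟩
  · have h1 := discr_mul_eq b₀ b₀ 1 (by rw [Matrix.det_one]; exact one_ne_zero)
      (fun j => by simp [Matrix.one_apply]) 1 (fun l m => (NM l m).map φ) (fun l m j => by
        have := congrArg ϖ (hN l m j)
        rw [Algebra.smul_def, map_mul, hcomp, hs1, map_one, one_mul, map_mul, map_mul, he, he, he, map_sum] at this
        rw [one_smul, this]
        refine Finset.sum_congr rfl fun i _ => ?_
        rw [Algebra.smul_def, map_mul, hcomp, he, Algebra.smul_def]
        rfl)
    rw [Matrix.det_one, one_pow, one_pow, one_mul, one_mul] at h1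
    rw [h1, RingHom.map_det]
    congr 1
    ext l m
    rw [RingHom.mapMatrix_apply, Matrix.map_apply, Matrix.of_apply, Matrix.of_apply, Matrix.trace, Matrix.trace,
      map_sum]
    rfl
  · have hloc : IsLocalizedModule M (IsScalarTower.toAlgHom R C B).toLinearMap :=
      (isLocalizedModule_iff_isBaseChange M S _).mpr (Algebra.IsPushout.out (R := R) (S := S) (R' := C) (S' := B))
    let f : Fin d → B := fun i => algebraMap C B (e i)
    have hf : LinearIndependent S f := hli.of_isLocalizedModule S M (IsScalarTower.toAlgHom R C B).toLinearMap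
    have hspan : ∀ x : B, algebraMap R S s • x ∈ Submodule.span S (Set.range f) := by
      intro x
      obtain ⟨⟨c, m⟩, hc⟩ := IsLocalizedModule.surj M (IsScalarTower.toAlgHom R C B).toLinearMap x
      have hu : IsUnit (algebraMap R S (m : R)) := IsLocalization.map_units S m
      have h2 : algebraMap R S (m : R) • x = algebraMap C B c := by
        rw [algebraMap_smul]
        exact hc
      obtain ⟨a, ha⟩ := (Submodule.mem_span_range_iff_exists_fun R).mp (hs2 c)
      have h3 : algebraMap R S (m : R) • (algebraMap R S s • x) ∈ Submodule.span S (Set.range f) := by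
        rw [smul_comm, h2, algebraMap_smul]
        have h4 : s • algebraMap C B c = ∑ i, algebraMap R S (a i) • f i := by
          have := congrArg (IsScalarTower.toAlgHom R C B) ha
          rw [map_smul, map_sum] at this
          refine this.symm.trans (Finset.sum_congr rfl fun i _ => ?_)
          rw [map_smul, algebraMap_smul]
          rfl
        rw [h4]
        exact Submodule.sum_mem _ fun i _ => Submodule.smul_mem _ _ (Submodule.subset_span ⟨i, rfl⟩)
      exact (Submodule.smul_mem_iff_of_isUnit _ hu).mp h3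
    have hs0 : algebraMap R S s ≠ 0 := by
      rw [Ne, map_eq_zero_iff _ hinj]
      rintro rfl
      rw [map_zero] at hs1
      exact zero_ne_one hs1
    have hBfin : Module.Finite S B := Module.Finite.of_basis b
    have hdd : d' = d := by
      classical
      apply le_antisymm
      · have hli' : LinearIndependent S fun k => algebraMap R S s • b k := by
          rw [Fintype.linearIndependent_iff]
          intro g hg k
          simp only [smul_smul] at hg
          exact (mul_eq_zero.mp (Fintype.linearIndependent_iff.mp b.linearIndependent _ hg k)).resolve_right hs0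
        have := linearIndependent_le_span' (fun k => algebraMap R S s • b k) hli' (Set.range f) (by
          rintro _ ⟨k, rfl⟩
          exact hspan _)
        rw [Cardinal.mk_fin] at this
        have h8 : d' ≤ Fintype.card (Set.range f) := by exact_mod_cast this
        exact h8.trans ((Fintype.card_range_le f).trans (Fintype.card_fin d).le)
      · have := hf.fintype_card_le_finrank
        rw [Module.finrank_eq_card_basis b, Fintype.card_fin, Fintype.card_fin] at this
        exact this
    subst hdd
    let P : Matrix (Fin d') (Fin d') S := Matrix.of fun j i => b.repr (f j) i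
    have hP : ∀ j, f j = ∑ i, P j i • b i := fun j => (b.sum_repr (f j)).symm
    have hdet : P.det ≠ 0 := by
      intro h0
      obtain ⟨v, hv0, hv⟩ := Matrix.exists_vecMul_eq_zero_iff.mpr h0
      apply hv0
      have h5 : ∑ j, v j • f j = 0 := by
        simp only [hP, Finset.smul_sum, smul_smul]
        rw [Finset.sum_comm]
        refine Finset.sum_eq_zero fun i _ => ?_
        rw [← Finset.sum_smul]
        have := congrFun hv i
        rw [Matrix.vecMul, dotProduct] at this
        rw [this, Pi.zero_apply, zero_smul]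
      exact funext (Fintype.linearIndependent_iff.mp hf v h5)
    have h6 := discr_mul_eq b f P hdet hP (algebraMap R S s) (fun l m => (NM l m).map (algebraMap R S))
      (fun l m j => by
        have := congrArg (IsScalarTower.toAlgHom R C B) (hN l m j)
        rw [map_smul, map_sum, map_mul, map_mul] at this
        rw [algebraMap_smul]
        refine this.trans (Finset.sum_congr rfl fun i _ => ?_)
        rw [map_smul, Matrix.map_apply, algebraMap_smul]
        rfl)
    have h7 : (Matrix.of fun l m => ((NM l m).map (algebraMap R S)).trace).det = algebraMap R S T := by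
      rw [RingHom.map_det]
      congr 1
      ext l m
      rw [RingHom.mapMatrix_apply, Matrix.map_apply, Matrix.of_apply, Matrix.of_apply, Matrix.trace, Matrix.trace,
        map_sum]
      rfl
    rw [h7] at h6
    rw [← h6]
    exact ⟨algebraMap R S s ^ Fintype.card (Fin d') * P.det ^ 2, by ring⟩

end Core

theorem main : K760.Hurw.GenStmt.{u} := by
  classical
  intro k _ A _ _ _ ρ hρ C _ _ _ _ C₀ _ _ ϖ hϖ hcomp hker r n β γ hγ hβγ hsimp het K _ _ _ B _ _ θ hpo
  have hAK : Function.Injective (algebraMap A K) := IsFractionRing.injective A K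
  let : Algebra A[X] K[X] := (mapRingHom (algebraMap A K)).toAlgebra
  have hRS : Function.Injective (algebraMap A[X] K[X]) := map_injective _ hAK
  let : Algebra C B := θ.toAlgebra
  let : Algebra A[X] B := ((algebraMap K[X] B).comp (algebraMap A[X] K[X])).toAlgebra
  have t1 : IsScalarTower A[X] K[X] B := IsScalarTower.of_algebraMap_eq' rfl
  have t2 : IsScalarTower A[X] C B := by
    refine IsScalarTower.of_algebraMap_eq' ?_
    exact congrArg CommRingCat.Hom.hom hpo.w
  have hpo' : Algebra.IsPushout A[X] K[X] C B := CommRingCat.isPushout_iff_isPushout.mp hpo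
  let L := hpo'.out.equiv
  have hfin : Module.Finite K[X] B := Module.Finite.equiv L
  have hflat : Module.Flat K[X] B := Module.Flat.of_linearEquiv L.symm
  have hfree : Module.Free K[X] B := inferInstance
  refine ⟨fun i j hij => ?_, hfin, hfree, ?_⟩
  · have h1 : β i = β j := hAK hij
    exact hsimp.inj (by simp only [h1])
  -- bases indexed by `Fin`
  have hfin₀ := hsimp.finite
  have hfree₀ := hsimp.free
  let b : Module.Basis (Fin _) K[X] B := (Module.Free.chooseBasis K[X] B).reindex (Fintype.equivFin _)
  have hb : Algebra.discr K[X] (Module.Free.chooseBasis K[X] B) = Algebra.discr K[X] b := by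
    simp only [b]
    rw [Module.Basis.coe_reindex, Algebra.discr_reindex]
  let b₀ : Module.Basis (Fin _) k[X] C₀ := (Module.Free.chooseBasis k[X] C₀).reindex (Fintype.equivFin _)
  have hb₀ : Algebra.discr k[X] (Module.Free.chooseBasis k[X] C₀) = Algebra.discr k[X] b₀ := by
    simp only [b₀]
    rw [Module.Basis.coe_reindex, Algebra.discr_reindex]
  rw [hb]
  -- the discriminant divides a power of `∏ (x - γ_j)`
  have hγA : Function.Injective γ := fun i j hij => hγ (by simp only [hij])
  have hγK : Function.Injective fun j => algebraMap A K (γ j) := fun i j hij => hγA (hAK hij)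
  obtain ⟨N, hN⟩ := exists_discr_dvd_pow b _ (etale_away_of_isPushout (mapRingHom (algebraMap A K)) θ _ hpo het)
  have hg : mapRingHom (algebraMap A K) (∏ j, (X - Polynomial.C (γ j))) = ∏ j, (X - Polynomial.C (algebraMap A K (γ j))) := by
    rw [map_prod]
    simp
  rw [hg] at hN
  obtain ⟨e, he⟩ := exists_exponents _ hγK _ _ hN
  -- comparison with the special fibre
  have hloc : IsLocalization ((nonZeroDivisors A).map (Polynomial.C : A →+* A[X])) K[X] :=
    Polynomial.isLocalization (nonZeroDivisors A) K
  obtain ⟨T, hT₀, hT⟩ := exists_disc (mapRingHom ρ) (map_surjective ρ hρ) ϖ hcomp hϖ hker hRS b₀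
    ((nonZeroDivisors A).map (Polynomial.C : A →+* A[X])) b
  have hdvd : (∏ j, (X - Polynomial.C (algebraMap A K (γ j))) ^ e j) ∣ algebraMap A[X] K[X] T := he.dvd.trans hT
  have hdvdA : (∏ j, (X - Polynomial.C (γ j)) ^ e j) ∣ T := by
    refine (map_dvd_map (algebraMap A K) hAK (monic_prod_of_monic _ _ fun j _ => (monic_X_sub_C _).pow _)).mp ?_
    have h3 : map (algebraMap A K) (∏ j, (X - Polynomial.C (γ j)) ^ e j) =
        ∏ j, (X - Polynomial.C (algebraMap A K (γ j))) ^ e j := by
      rw [Polynomial.map_prod]
      simp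
    rw [h3]
    exact hdvd
  have hdvd₀ : (∏ j, (X - Polynomial.C (ρ (γ j))) ^ e j) ∣ ∏ i, (X - Polynomial.C (ρ (β i))) := by
    have h2 := (map_dvd (mapRingHom ρ) hdvdA).trans (hT₀.dvd.trans (hb₀ ▸ hsimp.disc))
    rw [map_prod] at h2
    simpa using h2
  refine he.symm.dvd.trans (prod_dvd_prod _ _ _ _ hγK hsimp.inj ?_ e hdvd₀)
  intro i j hij
  obtain ⟨j', hj'⟩ := hβγ i
  rw [← hj'] at hij ⊢
  rw [hγ hij]

end K228.Hurw.Gen
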